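import Mathlib
import Cfsg.Prelude.Def_LieExceptional
import Cfsg.Agent.S0183

/-!
# S4068 (helper1): groups all of whose non-identity elements have prime order (EPO-groups)

* `h1_isCN`: an EPO-group is a CN-group (centralizers are `p`-groups);
* `h1_solvable_of_odd`: an EPO-group of odd order is solvable (landed S0183, the CN-theorem);
* `h1_epo_quotient`, `h1_epo_subgroup`: EPO passes to quotients and subgroups.
-/

set_option autoImplicit false
set_option linter.style.haveILetI false

namespace Cfsg.Agent.A5O

/-- every non-identity element has prime order. -/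
def Epo (G : Type*) [Group G] : Prop := ∀ g : G, g ≠ 1 → (orderOf g).Prime

variable {G : Type*} [Group G]

/-- in an EPO-group an element commuting with an element of prime order `p` has order `1` or `p`. -/
theorem h1_orderOf_of_commute (hG : Epo G) {g c : G} (hg : g ≠ 1) (hc : c ≠ 1)
    (hcomm : Commute g c) : orderOf c = orderOf g := by
  have hp := hG g hg
  have hq := hG c hc
  by_contra hne
  have hcop : (orderOf g).Coprime (orderOf c) :=
    (Nat.coprime_primes hp hq).mpr (fun h => hne h.symm)
  have hmul := hcomm.orderOf_mul_eq_mul_orderOf_of_coprime hcop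
  have hgc : g * c ≠ 1 := by
    intro h
    rw [h, orderOf_one] at hmul
    have := hp.two_le
    have := hq.two_le
    nlinarith
  have := hG _ hgc
  rw [hmul] at this
  exact Nat.not_prime_mul hp.one_lt.ne' hq.one_lt.ne' this

theorem h1_isPGroup_centralizer (hG : Epo G) {g : G} (hg : g ≠ 1) :
    IsPGroup (orderOf g) (Subgroup.centralizer ({g} : Set G)) := by
  intro c
  by_cases hc : (c : G) = 1
  · refine ⟨0, ?_⟩
    apply Subtype.ext
    simp [hc]
  · refine ⟨1, ?_⟩
    apply Subtype.ext
    have hcomm : Commute g (c : G) := by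
      have := Subgroup.mem_centralizer_singleton_iff.mp c.2
      exact this.symm
    have h := h1_orderOf_of_commute hG hg hc hcomm
    rw [pow_one, Subgroup.coe_pow, Subgroup.coe_one, ← h]
    exact pow_orderOf_eq_one _

theorem h1_isCN [Finite G] (hG : Epo G) : Cfsg.IsCNGroup G := by
  intro g hg
  haveI : Fact (orderOf g).Prime := ⟨hG g hg⟩
  exact (h1_isPGroup_centralizer hG hg).isNilpotent

/-- an EPO-group of odd order is solvable (the CN-theorem, S0183). -/
theorem h1_solvable_of_odd [Finite G] (hG : Epo G) (hodd : Odd (Nat.card G)) :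
    Group.IsSolvable G :=
  Cfsg.Agent.S0183.result hodd (h1_isCN hG)

theorem h1_epo_subgroup (hG : Epo G) (H : Subgroup G) : Epo H := by
  intro h hh
  rw [← Subgroup.orderOf_coe]
  apply hG
  intro h1
  apply hh
  exact Subtype.ext h1

theorem h1_epo_quotient (hG : Epo G) (N : Subgroup G) [N.Normal] : Epo (G ⧸ N) := by
  intro x hx
  obtain ⟨g, rfl⟩ := QuotientGroup.mk_surjective x
  have hg : g ≠ 1 := by
    rintro rfl
    exact hx rfl
  have hp := hG g hg
  have hdvd : orderOf (QuotientGroup.mk' N g) ∣ orderOf g := orderOf_map_dvd (QuotientGroup.mk' N) g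
  rcases (Nat.dvd_prime hp).mp hdvd with h | h
  · exfalso
    exact hx (orderOf_eq_one_iff.mp h)
  · show (orderOf (QuotientGroup.mk' N g)).Prime
    rw [h]
    exact hp

end Cfsg.Agent.A5O
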