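import Mathlib
import Cfsg.Agent.A5O.H1_Epo
import Cfsg.Agent.Helper6.BurnsidePQ
import Cfsg.Agent.Helper2.CyclicSylow2
import Cfsg.Agent.S1230
import Cfsg.Agent.S0252
import Cfsg.Agent.Helper5.SpecPSL

/-!
# S4068 (helper1): a non-solvable finite group with exactly four `Aut`-orbits is `A₅`
-/

set_option autoImplicit false
set_option linter.style.haveILetI false

namespace Cfsg.Agent.A5O

variable {G : Type*} [Group G] [Finite G]

/-- a non-solvable group has at least three prime divisors (Burnside). -/
theorem h1_three_le (hns : ¬ Group.IsSolvable G) : 3 ≤ (Nat.card G).primeFactors.card := by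
  by_contra hlt
  push Not at hlt
  apply hns
  have hn0 : Nat.card G ≠ 0 := Nat.card_pos.ne'
  have hprod := Nat.prod_factorization_pow_eq_self hn0
  rw [Finsupp.prod, Nat.support_factorization] at hprod
  have hcases : (Nat.card G).primeFactors.card = 0 ∨ (Nat.card G).primeFactors.card = 1 ∨
      (Nat.card G).primeFactors.card = 2 := by omega
  rcases hcases with h | h | h
  · rw [Finset.card_eq_zero] at h
    rw [h, Finset.prod_empty] at hprod
    exact Cfsg.Agent.Helper6.burnside_pq 2 3 0 0 Nat.prime_two Nat.prime_three (by rw [← hprod]; norm_num)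
  · obtain ⟨p, hp⟩ := Finset.card_eq_one.mp h
    have hpp : p.Prime := Nat.prime_of_mem_primeFactors (by rw [hp]; exact Finset.mem_singleton_self p)
    rw [hp, Finset.prod_singleton] at hprod
    exact Cfsg.Agent.Helper6.burnside_pq p p ((Nat.card G).factorization p) 0 hpp hpp
      (by rw [pow_zero, mul_one, hprod])
  · obtain ⟨p, q, hpq, hp⟩ := Finset.card_eq_two.mp h
    have hpp : p.Prime := Nat.prime_of_mem_primeFactors (by rw [hp]; simp)
    have hqp : q.Prime := Nat.prime_of_mem_primeFactors (by rw [hp]; simp)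
    rw [hp, Finset.prod_pair hpq] at hprod
    exact Cfsg.Agent.Helper6.burnside_pq p q ((Nat.card G).factorization p)
      ((Nat.card G).factorization q) hpp hqp hprod.symm

/-- **Step 1.** four `Aut`-orbits and non-solvable: every non-identity element has prime order. -/
theorem h1_epo_of_four_orbits (hns : ¬ Group.IsSolvable G)
    (h4 : Nat.card (MulAction.orbitRel.Quotient (MulAut G) G) = 4) : Epo G := by
  classical
  have hwd : ∀ a b : G, (MulAction.orbitRel (MulAut G) G) a b → orderOf a = orderOf b := by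
    intro a b hab
    obtain ⟨f, hf⟩ := MulAction.orbitRel_apply.mp hab
    rw [← hf]
    exact MulEquiv.orderOf_eq f b
  let ordQ : MulAction.orbitRel.Quotient (MulAut G) G → ℕ :=
    Quotient.lift (fun g : G => orderOf g) hwd
  have hsub : Set.range (orderOf : G → ℕ) ⊆ Set.range ordQ := by
    rintro _ ⟨g, rfl⟩
    exact ⟨Quotient.mk _ g, rfl⟩
  have hfinQ : (Set.range ordQ).Finite := Set.finite_range ordQ
  have hR4 : (Set.range (orderOf : G → ℕ)).ncard ≤ 4 := by
    calc (Set.range (orderOf : G → ℕ)).ncard ≤ (Set.range ordQ).ncard :=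
          Set.ncard_le_ncard hsub hfinQ
      _ = (ordQ '' Set.univ).ncard := by rw [Set.image_univ]
      _ ≤ (Set.univ : Set (MulAction.orbitRel.Quotient (MulAut G) G)).ncard :=
          Set.ncard_image_le Set.finite_univ
      _ = 4 := by rw [Set.ncard_univ, h4]
  have hPsub : insert 1 ((Nat.card G).primeFactors : Set ℕ) ⊆ Set.range (orderOf : G → ℕ) := by
    intro m hm
    rcases hm with rfl | hm
    · exact ⟨1, orderOf_one⟩
    · have hm' : m ∈ (Nat.card G).primeFactors := hm
      haveI : Fact m.Prime := ⟨Nat.prime_of_mem_primeFactors hm'⟩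
      obtain ⟨x, hx⟩ := exists_prime_orderOf_dvd_card' (G := G) m (Nat.dvd_of_mem_primeFactors hm')
      exact ⟨x, hx⟩
  have h1P : (1 : ℕ) ∉ ((Nat.card G).primeFactors : Set ℕ) := by
    intro h
    have h' : 1 ∈ (Nat.card G).primeFactors := h
    exact Nat.not_prime_one (Nat.prime_of_mem_primeFactors h')
  have hcardP : (insert 1 ((Nat.card G).primeFactors : Set ℕ)).ncard =
      (Nat.card G).primeFactors.card + 1 := by
    rw [Set.ncard_insert_of_notMem h1P (Finset.finite_toSet _), Set.ncard_coe_finset]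
  have h3 := h1_three_le hns
  have hfinR : (Set.range (orderOf : G → ℕ)).Finite := Set.finite_range _
  have hle : (Set.range (orderOf : G → ℕ)).ncard ≤
      (insert 1 ((Nat.card G).primeFactors : Set ℕ)).ncard := by
    rw [hcardP]; omega
  have heq := Set.eq_of_subset_of_ncard_le hPsub hle hfinR
  intro g hg
  have hmem : orderOf g ∈ insert 1 ((Nat.card G).primeFactors : Set ℕ) := by
    rw [heq]; exact ⟨g, rfl⟩
  rcases hmem with h | h
  · exact absurd (orderOf_eq_one_iff.mp h) hg
  · have h' : orderOf g ∈ (Nat.card G).primeFactors := h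
    exact Nat.prime_of_mem_primeFactors h'

/-- a group of exponent dividing `2` is commutative. -/
theorem h1_comm_of_sq {H : Type*} [Group H] (h : ∀ c : H, c ^ 2 = 1) (a b : H) : a * b = b * a := by
  have ha : a⁻¹ = a := by
    have := h a
    rw [pow_two] at this
    exact inv_eq_of_mul_eq_one_left this
  have hb : b⁻¹ = b := by
    have := h b
    rw [pow_two] at this
    exact inv_eq_of_mul_eq_one_left this
  have hab : (a * b)⁻¹ = a * b := by
    have := h (a * b)
    rw [pow_two] at this
    exact inv_eq_of_mul_eq_one_left this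
  calc a * b = (a * b)⁻¹ := hab.symm
    _ = b⁻¹ * a⁻¹ := mul_inv_rev a b
    _ = b * a := by rw [ha, hb]

omit [Finite G] in
/-- in an EPO-group the centralizer of an involution has exponent `2`. -/
theorem h1_centralizer_sq (hG : Epo G) {t : G} (ht : orderOf t = 2) :
    ∀ c ∈ Subgroup.centralizer ({t} : Set G), c ^ 2 = 1 := by
  intro c hc
  have ht1 : t ≠ 1 := by
    rintro rfl
    rw [orderOf_one] at ht
    omega
  by_cases hc1 : c = 1
  · rw [hc1, one_pow]
  · have hcomm : Commute t c := (Subgroup.mem_centralizer_singleton_iff.mp hc).symm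
    have h := h1_orderOf_of_commute hG ht1 hc1 hcomm
    rw [ht] at h
    rw [← h]
    exact pow_orderOf_eq_one c

/-- **Steps 2–4.** a non-solvable EPO-group is `PSL₂(F)` with `|F| = 4`. -/
theorem h1_psl_of_epo (hns : ¬ Group.IsSolvable G) (hG : Epo G) :
    ∃ (F : Type) (_ : Field F) (_ : Fintype F), Fintype.card F = 4 ∧
      Nonempty (G ≃* Matrix.ProjectiveSpecialLinearGroup (Fin 2) F) := by
  haveI : Fact (Nat.Prime 2) := ⟨Nat.prime_two⟩
  -- even order
  have heven : Even (Nat.card G) := by
    by_contra hodd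
    rw [Nat.not_even_iff_odd] at hodd
    exact hns (h1_solvable_of_odd hG hodd)
  obtain ⟨T⟩ : Nonempty (Sylow 2 G) := inferInstance
  -- `T` is not normal
  have hnn : ¬ (T : Subgroup G).Normal := by
    intro hTn
    haveI := hTn
    apply hns
    have hoddQ : Odd (Nat.card (G ⧸ (T : Subgroup G))) := by
      rw [← Subgroup.index_eq_card, ← Nat.not_even_iff_odd, even_iff_two_dvd]
      exact T.not_dvd_index
    haveI hQ : Group.IsSolvable (G ⧸ (T : Subgroup G)) :=
      h1_solvable_of_odd (h1_epo_quotient hG (T : Subgroup G)) hoddQ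
    haveI hT : Group.IsSolvable ↥(T : Subgroup G) := by
      haveI : Group.IsNilpotent ↥(T : Subgroup G) := T.isPGroup'.isNilpotent
      infer_instance
    apply Group.isSolvable_of_ker_le_range (T : Subgroup G).subtype
      (QuotientGroup.mk' (T : Subgroup G))
    rw [QuotientGroup.ker_mk', Subgroup.range_subtype]
  -- `T` is not cyclic
  have hnc : ¬ IsCyclic (T : Subgroup G) := by
    intro hT
    apply hns
    obtain ⟨H, hH⟩ := Cfsg.Agent.Helper2.exists_index_two_of_cyclic_sylow_two heven T hT
    haveI hHn : H.Normal := Subgroup.normal_of_index_eq_two hH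
    -- `|T| = 2`
    obtain ⟨g, hg⟩ := hT.exists_generator
    have hordg : orderOf g = Nat.card ↥(T : Subgroup G) := orderOf_eq_card_of_forall_mem_zpowers hg
    obtain ⟨k, hk⟩ := IsPGroup.iff_card.mp T.isPGroup'
    have hT2 : Nat.card ↥(T : Subgroup G) = 2 := by
      have h2dvd : 2 ∣ Nat.card ↥(T : Subgroup G) :=
        T.dvd_card_of_dvd_card (even_iff_two_dvd.mp heven)
      have hg1 : g ≠ 1 := by
        rintro rfl
        rw [orderOf_one] at hordg
        rw [← hordg] at h2dvd
        omega
      have hp := h1_epo_subgroup hG (T : Subgroup G) g hg1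
      rw [hordg] at hp
      exact ((Nat.prime_dvd_prime_iff_eq Nat.prime_two hp).mp h2dvd).symm
    have hoddH : Odd (Nat.card ↥H) := by
      have h1 := H.card_mul_index
      rw [hH] at h1
      have h2 := (T : Subgroup G).card_mul_index
      rw [hT2] at h2
      have h3 : ¬ 2 ∣ (T : Subgroup G).index := T.not_dvd_index
      rw [← Nat.not_even_iff_odd, even_iff_two_dvd]
      intro h4
      apply h3
      omega
    haveI hHs : Group.IsSolvable ↥H := h1_solvable_of_odd (h1_epo_subgroup hG H) hoddH
    haveI hQs : Group.IsSolvable (G ⧸ H) := by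
      have hc : Nat.card (G ⧸ H) = 2 := by rw [← Subgroup.index_eq_card, hH]
      haveI : IsCyclic (G ⧸ H) := isCyclic_of_prime_card hc
      haveI : CommGroup (G ⧸ H) := IsCyclic.commGroup
      infer_instance
    apply Group.isSolvable_of_ker_le_range H.subtype (QuotientGroup.mk' H)
    rw [QuotientGroup.ker_mk', Subgroup.range_subtype]
  -- involution centralizers
  have hC : ∀ t : G, orderOf t = 2 →
      IsMulCommutative ↥(Subgroup.centralizer ({t} : Set G)) ∧
        ∀ c ∈ Subgroup.centralizer ({t} : Set G), c ^ 2 = 1 := by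
    intro t ht
    have hsq := h1_centralizer_sq hG ht
    refine ⟨⟨⟨fun x y => ?_⟩⟩, hsq⟩
    apply h1_comm_of_sq
    intro c
    apply Subtype.ext
    rw [Subgroup.coe_pow, Subgroup.coe_one]
    exact hsq c.1 c.2
  obtain ⟨F, iF, iFin, hFcard, ⟨e⟩⟩ := Cfsg.Agent.S1230.result T hnc hnn hC
  refine ⟨F, iF, iFin, ?_, ⟨e⟩⟩
  obtain ⟨n, hn⟩ := IsPGroup.iff_card.mp T.isPGroup'
  -- `n ≥ 2`
  have hn2 : 2 ≤ n := by
    rcases n with _ | _ | n
    · exfalso; apply hnc
      rw [pow_zero] at hn
      haveI : Subsingleton ↥(T : Subgroup G) := (Nat.card_eq_one_iff_unique.mp hn).1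
      infer_instance
    · exfalso; apply hnc
      rw [zero_add, pow_one] at hn
      exact isCyclic_of_prime_card hn
    · omega
  have hq : Fintype.card F = 2 ^ n := by rw [hFcard, hn]
  have h2F : (2 : F) = 0 := by
    have h0 := FiniteField.cast_card_eq_zero F
    rw [hq] at h0
    push_cast at h0
    exact (pow_eq_zero_iff (by omega)).mp h0
  have hdd : Cfsg.Agent.Helper5.SpecPSL.dd F = 1 := Cfsg.Agent.Helper5.SpecPSL.dd_of_two_eq h2F
  have hq4 : 4 ≤ Fintype.card F := by
    rw [hq]
    calc 4 = 2 ^ 2 := by norm_num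
      _ ≤ 2 ^ n := Nat.pow_le_pow_right (by norm_num) hn2
  -- elements of orders `q - 1` and `q + 1`
  have hprime : ∀ m : ℕ, 2 ≤ m →
      (∃ x : Matrix.ProjectiveSpecialLinearGroup (Fin 2) F, orderOf x = m) → m.Prime := by
    rintro m hm ⟨x, hx⟩
    have h1 : orderOf (e.symm x) = m := by rw [MulEquiv.orderOf_eq, hx]
    have hne : e.symm x ≠ 1 := by
      intro h
      rw [h, orderOf_one] at h1
      omega
    rw [← h1]
    exact hG _ hne
  have hsub : (Fintype.card F - 1).Prime := by
    apply hprime _ (by omega)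
    obtain ⟨x, hx⟩ := Cfsg.Agent.Helper5.SpecPSL.exists_orderOf_eq_sub (F := F)
    rw [hdd, Nat.div_one] at hx
    exact ⟨x, hx⟩
  have hadd : (Fintype.card F + 1).Prime := by
    apply hprime _ (by omega)
    obtain ⟨x, hx⟩ := Cfsg.Agent.Helper5.SpecPSL.exists_orderOf_eq_add (F := F)
    rw [hdd, Nat.div_one] at hx
    exact ⟨x, hx⟩
  -- `q = 4`
  have h3 : ¬ 3 ∣ Fintype.card F := by
    rw [hq]
    intro h
    have := Nat.Prime.dvd_of_dvd_pow Nat.prime_three h
    omega
  have hmod : Fintype.card F % 3 = 1 ∨ Fintype.card F % 3 = 2 := by omega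
  rcases hmod with h | h
  · have hd : 3 ∣ Fintype.card F - 1 := by omega
    have := (Nat.prime_dvd_prime_iff_eq Nat.prime_three hsub).mp hd
    omega
  · have hd : 3 ∣ Fintype.card F + 1 := by omega
    have := (Nat.prime_dvd_prime_iff_eq Nat.prime_three hadd).mp hd
    omega

/-- **S4068.** -/
theorem h1_main (hns : ¬ Group.IsSolvable G)
    (h4 : Nat.card (MulAction.orbitRel.Quotient (MulAut G) G) = 4) :
    Nonempty (G ≃* alternatingGroup (Fin 5)) := by
  obtain ⟨F, iF, iFin, hF, ⟨e⟩⟩ := h1_psl_of_epo hns (h1_epo_of_four_orbits hns h4)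
  obtain ⟨e2⟩ := Cfsg.Agent.S0252.result (F := F) hF
  exact ⟨e.trans e2⟩

end Cfsg.Agent.A5O
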